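import Mathlib
import Cfsg.Agent.Lib.Block.FrobSyl2
import Cfsg.Agent.S4145

/-! Groups with cyclic Sylow `p`-subgroups: pairs of elements of order `p`. -/

set_option autoImplicit false

namespace CfsgLib.CycPair

open Cfsg Subgroup CfsgLib.PLocal CfsgLib.Block CfsgLib.Transfer
open CfsgLib.BrPair (Cz Nz Ce)

variable {G : Type*} [Group G] {p : ℕ}

/-- all `p`-subgroups are cyclic -/
def Cy (p : ℕ) (G : Type*) [Group G] : Prop := ∀ Q : Subgroup G, IsPGroup p Q → IsCyclic Q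

theorem Cy.of_sylow [Finite G] [Fact p.Prime] (P : Sylow p G) (hP : IsCyclic (P : Subgroup G)) : Cy p G :=
  fun Q hQ => by
    obtain ⟨R, hR⟩ := hQ.exists_le_sylow
    have : IsCyclic (R : Subgroup G) := isCyclic_of_surjective _ (P.equiv R).surjective
    exact Subgroup.isCyclic_of_le hR

theorem Cy.subgroup (h : Cy p G) (H : Subgroup G) : Cy p H := fun Q hQ => by
  have := h _ (hQ.map H.subtype)
  exact isCyclic_of_surjective _ (Q.equivMapOfInjective _ H.subtype_injective).symm.surjective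

theorem Cy.of_surjective [Finite G] [Fact p.Prime] (h : Cy p G) {H : Type*} [Group H] {f : G →* H}
    (hf : Function.Surjective f) : Cy p H := by
  have := Finite.of_surjective f hf
  obtain ⟨P⟩ : Nonempty (Sylow p G) := inferInstance
  have := h _ P.isPGroup'
  exact Cy.of_sylow (P.mapSurjective hf) (isCyclic_of_surjective _ (f.subgroupMap_surjective P))

theorem mem_zpowers_cyc {T : Type*} [Group T] [Finite T] [IsCyclic T] (hp : 0 < p) {x y : T}
    (hx : orderOf x = p) (hy : y ^ p = 1) : y ∈ zpowers x := by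
  classical
  have := Fintype.ofFinite T
  have h1 := IsCyclic.card_pow_eq_one_le (α := T) hp
  have h2 : (Finset.univ.filter fun a : T => a ∈ zpowers x) ⊆
      Finset.univ.filter fun a : T => a ^ p = 1 := by
    intro a ha
    simp only [Finset.mem_filter, Finset.mem_univ, true_and] at ha ⊢
    exact orderOf_dvd_iff_pow_eq_one.1 (hx ▸ orderOf_dvd_of_mem_zpowers ha)
  have h3 : (Finset.univ.filter fun a : T => a ∈ zpowers x).card = p := by
    rw [← hx, ← Nat.card_zpowers, Nat.card_eq_fintype_card, Fintype.card_subtype]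
  have h4 := Finset.eq_of_subset_of_card_le h2 (by rw [h3]; exact h1)
  have : y ∈ Finset.univ.filter fun a : T => a ^ p = 1 := by simp [hy]
  rw [← h4] at this
  simpa using this

theorem Cy.mem_zp [Finite G] [hp : Fact p.Prime] (h : Cy p G) {Q : Subgroup G} (hQ : IsPGroup p Q)
    {x y : G} (hx : x ∈ Q) (hy : y ∈ Q) (ox : orderOf x = p) (oy : y ^ p = 1) : y ∈ zpowers x := by
  have := h Q hQ
  obtain ⟨k, hk⟩ := mem_zpowers_cyc hp.out.pos (x := (⟨x, hx⟩ : Q)) (y := ⟨y, hy⟩)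
    (by rwa [Subgroup.orderOf_mk]) (Subtype.ext oy)
  exact ⟨k, congrArg Subtype.val hk⟩

theorem Cy.frobSyl [Finite G] [Fact p.Prime] (h : Cy p G) (P : Sylow p G) : FrobSyl P := by
  have hc := h _ P.isPGroup'
  have hm : IsMulCommutative (P : Subgroup G) := inferInstance
  refine ⟨hm, fun y hy hy1 => le_antisymm ?_ (le_inf (centralizer_le (Set.singleton_subset_iff.2 hy)) (centralizer_le_normalizer _))⟩
  have hle : (P : Subgroup G) ≤ Ce y := fun a ha => mem_centralizer_singleton_iff.2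
    (congrArg Subtype.val (hm.is_comm.comm (⟨a, ha⟩ : (P : Subgroup G)) ⟨y, hy⟩))
  have hN : HasNormalPComplement p (Ce y) := by
    rcases Cfsg.Agent.S4145.dich (P.subtype hle) (Cfsg.Agent.S4145.isCyclic_subtype P hc hle) with h1 | ⟨-, h1⟩
    · exact h1
    · have : (⟨y, hle hy⟩ : Ce y) ∈ (P.subtype hle : Subgroup (Ce y)) ⊓ center (Ce y) :=
        ⟨hy, mem_center_iff.2 fun a => Subtype.ext (mem_centralizer_singleton_iff.1 a.2)⟩
      rw [h1] at this
      exact absurd (congrArg Subtype.val this) hy1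
  rintro n ⟨h1, h2⟩
  obtain ⟨u, s, e, hcm, hu, hs⟩ := exists_isPPart (Fact.out : p.Prime) n
  have hp : IsPPart p n u := ⟨s, e, hcm, hu, hs⟩
  have u1 := isPPart_mem Fact.out hp h1
  have u2 := isPPart_mem Fact.out hp h2
  have es : s = u⁻¹ * n := by rw [← e]; group
  have hsC := mem_centralizer_of_hasNormalPComplement hN P.isPGroup' hle (g := s)
    (es ▸ mul_mem (inv_mem u1) h1) (es ▸ mul_mem (inv_mem u2) h2)
    ((Nat.Prime.coprime_iff_not_dvd Fact.out).2 hs).symm
  have huP : u ∈ (P : Subgroup G) := by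
    obtain ⟨k, hk⟩ := hu
    have h3 : IsPGroup p (zpowers u) := IsPGroup.of_card (by rw [Nat.card_zpowers, hk])
    have h4 := P.is_maximal' (IsPGroup.to_sup_of_normal_left' P.isPGroup' h3 (zpowers_le.2 u2)) le_sup_left
    exact h4 ▸ mem_sup_right (mem_zpowers u)
  rw [← e]
  exact mul_mem ((P : Subgroup G).le_centralizer huP) hsC

theorem orderOf_map_eq [Finite G] [hp : Fact p.Prime] {H : Type*} [Group H] (f : G →* H)
    (hk : (Nat.card f.ker).Coprime p) {u : G} (hu : ∃ k, orderOf u = p ^ k) : orderOf (f u) = orderOf u := by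
  obtain ⟨k, hk'⟩ := hu
  refine Nat.dvd_antisymm (orderOf_map_dvd f u) (orderOf_dvd_of_pow_eq_one ?_)
  have h1 : u ^ orderOf (f u) ∈ f.ker := by rw [MonoidHom.mem_ker, map_pow, pow_orderOf_eq_one]
  exact orderOf_eq_one_iff.1 (Nat.eq_one_of_dvd_coprimes (hk.pow_right k)
    (f.ker.orderOf_dvd_natCard h1) (hk' ▸ orderOf_pow_dvd _))

theorem map_eq_of_isPPart [hp : Fact p.Prime] {H : Type*} [Group H] (f : G →* H) {g u : G}
    (hu : IsPPart p g u) (hg : f g ^ p = 1) : f u = f g := by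
  obtain ⟨s, e, hc, ⟨k, hk⟩, hs⟩ := hu
  have h1 : f s = (f u)⁻¹ * f g := by rw [← e, map_mul]; group
  have h2 : Commute (f u)⁻¹ (f g) := by
    rw [← e, map_mul]
    exact ((Commute.refl _).mul_right (hc.map f)).inv_left
  have h3 : f s ^ p ^ (k + 1) = 1 := by
    rw [h1, h2.mul_pow, inv_pow, ← map_pow, pow_succ p k, pow_mul, ← hk, pow_orderOf_eq_one, one_pow, map_one,
      inv_one, one_mul, mul_comm, pow_mul, hg, one_pow]
  have h4 : f s = 1 := orderOf_eq_one_iff.1 (Nat.eq_one_of_dvd_coprimes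
    ((hp.out.coprime_iff_not_dvd.2 hs).pow_left (k + 1)) (orderOf_dvd_of_pow_eq_one h3) (orderOf_map_dvd f s))
  rw [← e, map_mul, h4, mul_one]

theorem exists_lift [Finite G] [hp : Fact p.Prime] {H : Type*} [Group H] {f : G →* H} (hf : Function.Surjective f)
    (hk : (Nat.card f.ker).Coprime p) {x : H} (hx : orderOf x = p) : ∃ u, orderOf u = p ∧ f u = x := by
  obtain ⟨g, rfl⟩ := hf x
  obtain ⟨u, hu⟩ := exists_isPPart hp.out g
  have h1 := map_eq_of_isPPart f hu (hx ▸ pow_orderOf_eq_one _)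
  exact ⟨u, by rw [← orderOf_map_eq f hk (isPPart_pElt hu), h1, hx], h1⟩

theorem pair_top [Finite G] [hp : Fact p.Prime] (h : Cy p G) (hG : IsPSolvable p G) {y z : G}
    (hy : orderOf y = p) (hz : orderOf z = p) :
    ∃ v₀ ∈ zpowers z, v₀ ≠ 1 ∧ ∀ v ∈ zpowers z, ∀ u, IsPPart p (y * v) u → (orderOf u = p ↔ v ≠ v₀) := by
  let f := QuotientGroup.mk' (pPrimeCore p G)
  have hf : Function.Surjective f := QuotientGroup.mk'_surjective _
  have hk : (Nat.card f.ker).Coprime p := by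
    rw [QuotientGroup.ker_mk']; exact PSolv.coprime_card_pPrimeCore
  have hQ := h.of_surjective hf
  have key : ∀ x : G, orderOf x = p → orderOf (f x) = p ∧ f x ∈ pCore p (G ⧸ pPrimeCore p G) := fun x hx => by
    have h1 : orderOf (f x) = p := by rw [orderOf_map_eq f hk ⟨1, by rw [hx, pow_one]⟩, hx]
    refine ⟨h1, PSolv.centralizer_pCore_le (PSolv.quotient hG _) PSolv.pPrimeCore_quotient fun a ha => ?_⟩
    have h3 : IsPGroup p (zpowers (f x)) := IsPGroup.of_card (n := 1) (by rw [Nat.card_zpowers, h1, pow_one])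
    have h4 := hQ _ (IsPGroup.to_sup_of_normal_left PSolv.isPGroup_pCore h3)
    have h5 : IsMulCommutative (pCore p (G ⧸ pPrimeCore p G) ⊔ zpowers (f x) : Subgroup _) := inferInstance
    exact congrArg Subtype.val (h5.is_comm.comm ⟨a, mem_sup_left ha⟩ ⟨f x, mem_sup_right (mem_zpowers _)⟩)
  have hyz : f y ∈ zpowers (f z) := hQ.mem_zp PSolv.isPGroup_pCore (key z hz).2 (key y hy).2 (key z hz).1
    (orderOf_dvd_iff_pow_eq_one.1 (key y hy).1.dvd)
  obtain ⟨i, hi⟩ := inv_mem hyz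
  replace hi : f z ^ i = (f y)⁻¹ := hi
  have pe : ∀ v ∈ zpowers z, ∃ k, orderOf v = p ^ k := fun v hv =>
    ((Nat.dvd_prime_pow hp.out (m := 1)).1 (by rw [pow_one, ← hz]; exact orderOf_dvd_of_mem_zpowers hv)).imp
      fun _ h => h.2
  refine ⟨z ^ i, ⟨i, rfl⟩, fun e => ?_, fun v hv u hu => ?_⟩
  · rw [← map_zpow, e, map_one, eq_comm, inv_eq_one] at hi
    have := (key y hy).1
    rw [hi, orderOf_one] at this
    exact hp.out.ne_one this.symm
  have h1 : f (y * v) ∈ zpowers (f z) := by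
    obtain ⟨j, rfl⟩ := hv
    rw [map_mul]
    exact mul_mem hyz ⟨j, (map_zpow f z j).symm⟩
  have h2 : orderOf (f (y * v)) ∣ p := (orderOf_dvd_of_mem_zpowers h1).trans (key z hz).1.dvd
  rw [← orderOf_map_eq f hk (isPPart_pElt hu), map_eq_of_isPPart f hu (orderOf_dvd_iff_pow_eq_one.1 h2)]
  have h3 : orderOf (f (y * v)) = 1 ↔ v = z ^ i := by
    rw [orderOf_eq_one_iff, ← inv_mul_eq_one (a := v), ← orderOf_eq_one_iff (x := v⁻¹ * z ^ i),
      ← orderOf_map_eq f hk (pe _ (mul_mem (inv_mem hv) ⟨i, rfl⟩)), orderOf_eq_one_iff, map_mul, map_mul,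
      map_inv, map_zpow, hi, ← mul_inv_rev, inv_eq_one]
  rw [Ne, ← h3]
  rcases (Nat.dvd_prime hp.out).1 h2 with h4 | h4
  · exact ⟨fun e => absurd (e.symm.trans h4) hp.out.ne_one, fun e => absurd h4 e⟩
  · exact ⟨fun _ e => hp.out.ne_one (h4.symm.trans e), fun _ => h4⟩

theorem pair [Finite G] [hp : Fact p.Prime] (h : Cy p G) {y z : G} (hy : orderOf y = p) (hz : orderOf z = p)
    (hG : IsPSolvable p (closure ({y, z} : Set G))) :
    ∃ v₀ ∈ zpowers z, v₀ ≠ 1 ∧ ∀ v ∈ zpowers z, ∀ u, IsPPart p (y * v) u → (orderOf u = p ↔ v ≠ v₀) := by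
  have my : y ∈ closure ({y, z} : Set G) := subset_closure (by simp)
  have mz : z ∈ closure ({y, z} : Set G) := subset_closure (by simp)
  obtain ⟨v₀, ⟨i, rfl⟩, h1, h2⟩ := pair_top (h.subgroup _) hG (y := ⟨y, my⟩) (z := ⟨z, mz⟩)
    (by rwa [Subgroup.orderOf_mk]) (by rwa [Subgroup.orderOf_mk])
  refine ⟨z ^ i, ⟨i, rfl⟩, fun e => h1 (Subtype.ext e), ?_⟩
  rintro _ ⟨j, rfl⟩ u hu
  obtain ⟨u', hu'⟩ := exists_isPPart hp.out ((⟨y, my⟩ : closure ({y, z} : Set G)) * ⟨z, mz⟩ ^ j)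
  rw [isPPart_unique hp.out hu (isPPart_coe hu'), Subgroup.orderOf_coe, h2 _ ⟨j, rfl⟩ u' hu', Ne, Ne,
    Subtype.ext_iff]
  rfl

end CfsgLib.CycPair
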