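import Mathlib
import Cfsg.Agent.Lib.CycPair.A

/-! Fixed spaces of an element of order `p` on the characters of the principal block. -/

set_option autoImplicit false

namespace CfsgLib.CycPair

open Cfsg Subgroup CfsgLib.Block CfsgLib.Char Finset
open CfsgLib.BrPair (Cz Nz Ce)
open CfsgLib.SL2 (lin classInner_lin fourier card_dual isIrr_lin lin_one lin_one_apply)
open scoped ComplexConjugate CfsgLib.SL2 CfsgLib.Char Classical

variable {G : Type*} [Group G] [Fintype G] {p : ℕ} {S : Subgroup G}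

/-- multiplicity of a linear character of `S` -/
noncomputable def mu (χ : IrrCharacter G) (ψ : S →* ℂˣ) : ℕ :=
  (exists_classInner_eq_nat (isCharacter_restrict S (irr_isCharacter χ))
    (isCharacter_of_isIrr (isIrr_lin ψ))).choose

theorem mu_spec (χ : IrrCharacter G) (ψ : S →* ℂˣ) :
    classInner (fun y : S => (χ : G → ℂ) y) (lin ψ) = mu χ ψ :=
  (exists_classInner_eq_nat (isCharacter_restrict S (irr_isCharacter χ))
    (isCharacter_of_isIrr (isIrr_lin ψ))).choose_spec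

theorem mu_orb (χ : IrrCharacter G) {ψ ψ' : S →* ℂˣ} (h : ψ' ∈ linOrb S ψ) : mu χ ψ' = mu χ ψ := by
  obtain ⟨n, hn, h⟩ := h
  apply Nat.cast_injective (R := ℂ)
  rw [← mu_spec, ← mu_spec, ← classInner_comp_mulEquiv (S.normalizerMonoidHom ⟨n, hn⟩)]
  congr 1
  · ext y
    exact irr_isClassFunction χ _ _
  · ext y
    exact congrArg Units.val (h y _ rfl)

/-- the elements of order `p` -/
noncomputable def SS (p : ℕ) (S : Subgroup G) : Finset S := univ.filter (orderOf · = p)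

/-- the linear characters that are nontrivial on `z` -/
noncomputable def TT (z : S) : Finset (S →* ℂˣ) := univ.filter (· z ≠ 1)

/-- codimension of the fixed space of `z` -/
noncomputable def rr (z : S) (χ : IrrCharacter G) : ℕ := ∑ ψ ∈ TT z, mu χ ψ

/-- the sum of the values on the elements of order `p` -/
noncomputable def AA (p : ℕ) (z : S) (χ : IrrCharacter G) : ℤ :=
  (p - 1) * charDegree (χ : G → ℂ) - p * rr z χ

variable [hp : Fact p.Prime] [IsCyclic S] {z : S} (hz : orderOf z = p)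

theorem val_eq (χ : IrrCharacter G) (y : S) : (χ : G → ℂ) y = ∑ ψ, mu χ ψ * lin ψ y := by
  simpa only [mu_spec] using fourier (fun y : S => (χ : G → ℂ) y) y

theorem deg_eq (χ : IrrCharacter G) : (charDegree (χ : G → ℂ) : ℂ) = ∑ ψ : S →* ℂˣ, (mu χ ψ : ℂ) := by
  simpa only [lin_one, mul_one, OneMemClass.coe_one, ← charDegree_eq (irr_isCharacter χ)] using val_eq χ (1 : S)

omit hp in
theorem rr_pos [IsSimpleGroup G] (hz1 : z ≠ 1) {χ : IrrCharacter G} (hχ : χ ≠ irrOne G) : 0 < rr z χ := by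
  refine Nat.pos_of_ne_zero fun h => hz1 (Subtype.ext (mem_bot.1 ?_))
  rw [← charKer_eq_bot_of_simple χ.2 fun e => hχ (Subtype.ext e), mem_charKer (irr_isCharacter χ),
    val_eq, ← charDegree_eq (irr_isCharacter χ), deg_eq (S := S)]
  refine sum_congr rfl fun ψ _ => ?_
  by_cases h1 : ψ z = 1
  · rw [SL2.lin_apply, h1, Units.val_one, mul_one]
  · rw [sum_eq_zero_iff.1 h ψ (mem_filter.2 ⟨mem_univ _, h1⟩), Nat.cast_zero, zero_mul]

include hz

theorem mem_SS {v : S} : v ∈ SS p S ↔ v ∈ zpowers z ∧ v ≠ 1 := by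
  rw [SS, mem_filter]
  refine ⟨fun h => ⟨mem_zpowers_cyc hp.out.pos hz (h.2 ▸ pow_orderOf_eq_one v), fun e => ?_⟩, fun h => ⟨mem_univ _, ?_⟩⟩
  · rw [e, orderOf_one] at h
    exact hp.out.ne_one h.2.symm
  · exact ((Nat.dvd_prime hp.out).1 (hz ▸ orderOf_dvd_of_mem_zpowers h.1)).resolve_left
      (mt orderOf_eq_one_iff.1 h.2)

theorem card_SS : (SS p S).card = p - 1 := by
  rw [SS, IsCyclic.card_orderOf_eq_totient (hz ▸ orderOf_dvd_card), Nat.totient_prime hp.out]

theorem card_SS' : ((SS p S).card : ℂ) = p - 1 := by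
  rw [card_SS hz, Nat.cast_pred hp.out.pos]

theorem sum_lin (ψ : S →* ℂˣ) : ∑ v ∈ SS p S, lin ψ v = if ψ z = 1 then (p : ℂ) - 1 else -1 := by
  split_ifs with h
  · rw [sum_congr rfl (g := fun _ => 1) fun v hv => by
      obtain ⟨k, rfl⟩ := ((mem_SS hz).1 hv).1
      rw [SL2.lin_apply, map_zpow, h, one_zpow, Units.val_one], sum_const, nsmul_eq_mul, mul_one, card_SS' hz]
  · have h1 := sum_hom_units_eq_zero ((Units.coeHom ℂ).comp (ψ.comp (zpowers z).subtype)) fun e =>
      h (Units.ext (by simpa using DFunLike.congr_fun e ⟨z, mem_zpowers z⟩))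
    have h2 : ∑ v ∈ insert 1 (SS p S), lin ψ v = 0 := by
      rw [← h1]
      exact sum_subtype _ (fun v => by
        rw [mem_insert, mem_SS hz]
        exact ⟨fun h => h.elim (fun e => e ▸ one_mem _) And.left, fun h => (em _).imp id fun e => ⟨h, e⟩⟩) _
    rw [sum_insert fun h => ((mem_SS hz).1 h).2 rfl, lin_one] at h2
    linear_combination h2

theorem sum_wt (c : (S →* ℂˣ) → ℂ) :
    ∑ v ∈ SS p S, ∑ ψ, c ψ * lin ψ v = (p - 1) * ∑ ψ, c ψ - p * ∑ ψ ∈ TT z, c ψ := by
  rw [sum_comm, TT, sum_filter, mul_sum, mul_sum, ← sum_sub_distrib]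
  refine sum_congr rfl fun ψ _ => ?_
  rw [← mul_sum, sum_lin hz]
  by_cases h : ψ z = 1
  · rw [if_pos h, if_neg (not_not.2 h)]; ring
  · rw [if_neg h, if_pos h]; ring

theorem sum_SS (χ : IrrCharacter G) : ∑ v ∈ SS p S, (χ : G → ℂ) v = AA p z χ := by
  simp only [val_eq χ]
  rw [sum_wt hz, AA, rr, ← deg_eq]
  push_cast
  rfl

theorem card_TT : p * (TT z).card = (p - 1) * Nat.card S := by
  have h1 := sum_wt hz (fun _ => 1)
  rw [sum_eq_zero fun v hv => by simpa using sum_lin_eq_zero ((mem_SS hz).1 hv).2] at h1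
  simp only [sum_const, card_univ, ← Nat.card_eq_fintype_card, card_dual, nsmul_eq_mul, mul_one] at h1
  apply Nat.cast_injective (R := ℂ)
  push_cast [Nat.cast_pred hp.out.pos]
  linear_combination h1

theorem orb_one {ψ ψ' : S →* ℂˣ} (h : ψ' ∈ linOrb S ψ) (h1 : ψ' z = 1) : ψ z = 1 := by
  obtain ⟨n, hn, h⟩ := mem_linOrb_symm.1 h
  have h2 := h ((S.normalizerMonoidHom ⟨n, hn⟩).symm z) z (by
    rw [← coe_normalizerMonoidHom ⟨n, hn⟩, MulEquiv.apply_symm_apply])
  obtain ⟨k, hk⟩ := mem_zpowers_cyc hp.out.pos hz (y := (S.normalizerMonoidHom ⟨n, hn⟩).symm z)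
    (by rw [← map_pow, ← hz, pow_orderOf_eq_one, map_one])
  rw [h2, ← hk, map_zpow, h1, one_zpow]

theorem orb_sub {ψ : S →* ℂˣ} (h : ψ ∈ TT z) : univ.filter (· ∈ linOrb S ψ) ⊆ TT z := fun _ h1 =>
  mem_filter.2 ⟨mem_univ _, fun e => (mem_filter.1 h).2 (orb_one hz (mem_filter.1 h1).2 e)⟩

end CfsgLib.CycPair
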