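import Mathlib
import Cfsg.Agent.Lib.CycPair.B
import Cfsg.Agent.Lib.Block.Span

/-! A simple group with cyclic Sylow `p`-subgroups has two elements of order `p` generating a subgroup that
is not `p`-solvable: counting of products in the principal block. -/

set_option autoImplicit false
set_option linter.unusedSectionVars false

namespace CfsgLib.CycPair

open Cfsg Subgroup CfsgLib.Block CfsgLib.Char Finset
open CfsgLib.BrPair (Cz Nz Ce)
open CfsgLib.SL2 (lin classInner_lin fourier card_dual isIrr_lin lin_one lin_one_apply)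
open scoped ComplexConjugate CfsgLib.SL2 CfsgLib.Char Classical

theorem card_mul_inner {A : Type*} [Group A] [Fintype A] {F f : A → ℂ} (h : ∀ y, y ≠ 1 → F y = f y)
    (μ : A →* ℂˣ) : (Nat.card A : ℂ) * classInner F (lin μ) = Nat.card A * classInner f (lin μ) + (F 1 - f 1) := by
  rw [card_mul_classInner, card_mul_classInner, ← add_sum_erase _ _ (mem_univ 1), ← add_sum_erase _ _ (mem_univ 1),
    sum_congr rfl fun y hy => by rw [h y (ne_of_mem_erase hy)], lin_one, map_one]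
  ring

variable {G : Type*} [Group G] [Fintype G] {p : ℕ} [hp : Fact p.Prime] {P : Sylow p G} {M : Ideal AlgInt}
  [IsCyclic (P : Subgroup G)] {z : (P : Subgroup G)}

/-- the inertial index -/
noncomputable abbrev ee (P : Sylow p G) : ℕ := (Cz (P : Subgroup G)).relIndex (Nz (P : Subgroup G))

theorem sum_orb (h : FrobSyl P) (χ : IrrCharacter G) {ψ : (P : Subgroup G) →* ℂˣ} (hψ : ψ ≠ 1) :
    ∑ ψ' ∈ univ.filter (· ∈ linOrb (P : Subgroup G) ψ), mu χ ψ' = ee P * mu χ ψ := by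
  rw [sum_congr rfl fun ψ' h1 => mu_orb χ (mem_filter.1 h1).2, sum_const, h.card_filter_linOrb hψ, smul_eq_mul]

theorem ne_one_of_TT {ψ : (P : Subgroup G) →* ℂˣ} (h : ψ ∈ TT z) : ψ ≠ 1 := fun e =>
  (mem_filter.1 h).2 (by rw [e]; rfl)

theorem bound1 (h : FrobSyl P) (hz : orderOf z = p) {χ : IrrCharacter G} (hχ : 0 < rr z χ) :
    ee P ≤ rr z χ ∧ ((TT z).card ≤ ee P → ee P ∣ rr z χ) := by
  obtain ⟨ψ, h1, h2⟩ := exists_ne_zero_of_sum_ne_zero hχ.ne'
  have h3 := sum_orb h χ (ne_one_of_TT h1)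
  refine ⟨(Nat.le_mul_of_pos_right _ (Nat.pos_of_ne_zero h2)).trans
    (h3.ge.trans (sum_le_sum_of_subset (orb_sub hz h1))), fun h4 => ⟨mu χ ψ, ?_⟩⟩
  rw [← h3, eq_of_subset_of_card_le (orb_sub hz h1) (by rwa [h.card_filter_linOrb (ne_one_of_TT h1)]), rr]

section exc
variable {δ d : ℤ} {ζ : ((P : Subgroup G) →* ℂˣ) → IrrCharacter G} {a : IrrCharacter G → ℤ}

theorem mu_exc (h : FrobSyl P) (E : IsExc p M (P : Subgroup G) δ d ζ a) {l μ : (P : Subgroup G) →* ℂˣ}
    (hl : l ≠ 1) (hμ : μ ≠ 1) (hn : μ ∉ linOrb _ l) :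
    (Nat.card (P : Subgroup G) : ℂ) * mu (ζ l) μ = (ζ l : G → ℂ) 1 - (d + δ * ee P) := by
  rw [← mu_spec, card_mul_inner (f := (d : ℂ) • lin 1 + (δ : ℂ) • linOrbSum _ l) (fun y hy => by
    rw [E.val l hl y hy]; simp [lin_one_apply]), classInner_add_left, classInner_smul_left, classInner_smul_left,
    classInner_lin, classInner_linOrbSum, if_neg hμ.symm, if_neg hn]
  simp [linOrbSum_eq_sum, lin_one, h.card_filter_linOrb hl]

theorem mu_nonexc (E : IsExc p M (P : Subgroup G) δ d ζ a) {χ : IrrCharacter G} (hχ : χ ∈ excX M ζ)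
    {μ : (P : Subgroup G) →* ℂˣ} (hμ : μ ≠ 1) :
    (Nat.card (P : Subgroup G) : ℂ) * mu χ μ = (χ : G → ℂ) 1 - a χ := by
  rw [← mu_spec, card_mul_inner (f := (a χ : ℂ) • lin 1) (fun y hy => by
    rw [E.val' χ (mem_excX.1 hχ).1 (mem_excX.1 hχ).2 y hy]; simp [lin_one_apply]), classInner_smul_left,
    classInner_lin, if_neg hμ.symm]
  simp [lin_one]

theorem bound2 [IsSimpleGroup G] (hM : IsPModular p M) (h : FrobSyl P) (E : IsExc p M (P : Subgroup G) δ d ζ a)
    (hz : orderOf z = p) {l₀ : (P : Subgroup G) →* ℂˣ} (h0 : l₀ ≠ 1) (h0' : l₀ z = 1) {χ : IrrCharacter G}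
    (hχ : χ ∈ principalBlock M G) (h1 : χ ≠ irrOne G) : (TT z).card ≤ rr z χ + ee P := by
  have hz1 : z ≠ 1 := fun e => hp.out.ne_one (by rw [← hz, e, orderOf_one])
  have hq : (Nat.card (P : Subgroup G) : ℂ) ≠ 0 := natCard_ne_zero
  rcases E.mem_iff.1 hχ with h2 | h2
  · obtain ⟨ψ, h3, h4⟩ := exists_ne_zero_of_sum_ne_zero (rr_pos hz1 h1).ne'
    refine le_trans ?_ (Nat.le_add_right _ _)
    rw [card_eq_sum_ones]
    refine sum_le_sum fun μ hμ => Nat.pos_of_ne_zero ?_
    rwa [Nat.cast_injective (mul_left_cancel₀ hq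
      ((mu_nonexc E h2 (ne_one_of_TT hμ)).trans (mu_nonexc E h2 (ne_one_of_TT h3)).symm))]
  · obtain ⟨l, hl, rfl⟩ := mem_excY.1 h2
    obtain ⟨ψ, h3, h4⟩ := exists_ne_zero_of_sum_ne_zero (rr_pos hz1 (χ := ζ l₀) fun e =>
      (mem_excX.1 (E.one_mem_excX hM)).2 l₀ h0 e).ne'
    have h5 := mu_exc h E h0 (ne_one_of_TT h3) fun e => (mem_filter.1 h3).2 (orb_one hz (mem_linOrb_symm.1 e) h0')
    rw [E.reg l₀ l h0 hl 1 (by simpa using hp.out.ne_one)] at h5
    calc (TT z).card ≤ (TT z \ univ.filter (· ∈ linOrb (P : Subgroup G) l)).card + ee P := by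
          rw [ee, ← h.card_filter_linOrb hl]; exact card_le_card_sdiff_add_card
      _ ≤ _ := by
          refine Nat.add_le_add_right (le_trans ?_ (sum_le_sum_of_subset (sdiff_subset
            (t := univ.filter (· ∈ linOrb (P : Subgroup G) l))))) _
          rw [card_eq_sum_ones]
          refine sum_le_sum fun μ hμ => Nat.pos_of_ne_zero ?_
          rwa [Nat.cast_injective (mul_left_cancel₀ hq ((mu_exc h E hl (ne_one_of_TT (mem_sdiff.1 hμ).1)
            fun e => (mem_sdiff.1 hμ).2 (mem_filter.2 ⟨mem_univ _, e⟩)).trans h5.symm))]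

end exc

/-- the principal block as a finite set -/
noncomputable abbrev BB (M : Ideal AlgInt) (G : Type*) [Group G] [Fintype G] : Finset (IrrCharacter G) :=
  univ.filter (· ∈ principalBlock M G)

theorem ord_conj {H : Type*} [Group H] {a b : H} (h : IsConj a b) : orderOf a = orderOf b := by
  obtain ⟨c, rfl⟩ := isConj_iff.1 h
  exact ((MulAut.conj c).orderOf_eq a).symm

omit [IsCyclic (P : Subgroup G)] in
theorem card_conj (h : FrobSyl P) {u : G} (hu : orderOf u = p) :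
    ((SS p (P : Subgroup G)).filter fun v : (P : Subgroup G) => IsConj u (v : G)).card = ee P := by
  obtain ⟨g, hg⟩ := exists_conj_mem_sylow P (x := u) ⟨1, by rw [hu, pow_one]⟩
  have h1 : (⟨_, hg⟩ : (P : Subgroup G)) ≠ 1 := fun e => by
    rw [conj_eq_one_iff.1 (congrArg Subtype.val e), orderOf_one] at hu
    exact hp.out.ne_one hu.symm
  rw [ee, ← h.card_conjIn h1]
  congr 1
  ext v
  have h2 : IsConj u (g * u * g⁻¹) := isConj_iff.2 ⟨g, rfl⟩
  rw [mem_conjIn, mem_filter, SS, mem_filter]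
  exact ⟨fun h3 => h2.symm.trans h3.2, fun h3 => ⟨⟨mem_univ _, by
    rw [← Subgroup.orderOf_coe, ← ord_conj (h2.trans h3), hu]⟩, h2.trans h3⟩⟩

theorem phi (hM : IsPModular p M) (h : FrobSyl P) (hz : orderOf z = p) {g u : G} (hu : IsPPart p g u) :
    ∑ χ ∈ BB M G, AA p z χ * (χ : G → ℂ) g =
      if orderOf u = p then (Nat.card (P : Subgroup G) * ee P : ℂ) else 0 := by
  have h1 : ∀ χ : IrrCharacter G, AA p z χ * (χ : G → ℂ) g =
      ∑ v ∈ SS p (P : Subgroup G), (χ : G → ℂ) g * conj ((χ : G → ℂ) v) := fun χ => by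
    rw [← mul_sum, ← map_sum, sum_SS hz, map_intCast, mul_comm]
  rw [sum_congr rfl fun χ _ => h1 χ, sum_comm, sum_congr rfl (g := fun v : (P : Subgroup G) =>
    if IsConj u (v : G) then (Nat.card (P : Subgroup G) : ℂ) else 0) fun v hv =>
    (h.sum_principal hM v.2 (fun e => ((mem_SS hz).1 hv).2 (Subtype.ext e)) hu).trans (by congr),
    ← sum_filter, sum_const, nsmul_eq_mul]
  split_ifs with h2
  · rw [card_conj h h2, mul_comm]
  · rw [filter_false_of_mem fun v hv e => h2 (by rw [ord_conj e, Subgroup.orderOf_coe]; exact (mem_filter.1 hv).2)]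
    simp

theorem sum_sq (hM : IsPModular p M) (h : FrobSyl P) (hz : orderOf z = p) :
    ∑ χ ∈ BB M G, AA p z χ ^ 2 = (p - 1) * (Nat.card (P : Subgroup G) * ee P) := by
  apply Int.cast_injective (α := ℂ)
  push_cast
  rw [← card_SS' hz, ← nsmul_eq_mul, ← sum_const, ← sum_congr rfl fun v hv =>
    (phi hM h hz (FrobSyl.isPPart_self' hp.out v)).trans
      (if_pos (by rw [Subgroup.orderOf_coe]; exact (mem_filter.1 hv).2)), sum_comm]
  exact sum_congr rfl fun χ _ => by rw [← mul_sum, sum_SS hz, sq]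

theorem sum_deg (hM : IsPModular p M) (h : FrobSyl P) (hz : orderOf z = p) :
    ∑ χ ∈ BB M G, AA p z χ * charDegree (χ : G → ℂ) = 0 := by
  apply Int.cast_injective (α := ℂ)
  push_cast
  have := phi hM h hz (isPPart_one (y := (1 : G)) (by simpa using hp.out.ne_one))
  rw [if_neg (by simpa using hp.out.ne_one.symm)] at this
  simpa only [charDegree_eq (irr_isCharacter _)] using this

theorem sum_cube (hM : IsPModular p M) (h : FrobSyl P) (hC : Cy p G) (hz : orderOf z = p)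
    (H : ∀ x y : G, orderOf x = p → orderOf y = p → IsPSolvable p (closure ({x, y} : Set G))) :
    ∑ χ ∈ BB M G, (AA p z χ ^ 3 / charDegree (χ : G → ℂ) : ℝ) =
      (p - 1) * (p - 2) * (Nat.card (P : Subgroup G) * ee P) := by
  have hz' : orderOf (z : G) = p := by rwa [Subgroup.orderOf_coe]
  have h1 : ∀ y : G, orderOf y = p → ∑ v ∈ SS p (P : Subgroup G), ∑ χ ∈ BB M G, AA p z χ * (χ : G → ℂ) (y * v) =
      (p - 2) * (Nat.card (P : Subgroup G) * ee P : ℂ) := fun y hy => by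
    obtain ⟨_, ⟨i, rfl⟩, h2, h3⟩ := pair hC hy hz' (H _ _ hy hz')
    have h4 : z ^ i ∈ SS p (P : Subgroup G) := (mem_SS hz).2 ⟨⟨i, rfl⟩, fun e => h2 (congrArg Subtype.val e)⟩
    rw [sum_congr rfl (g := fun v => if v ≠ z ^ i then (Nat.card (P : Subgroup G) * ee P : ℂ) else 0) fun v hv => by
      obtain ⟨u, hu⟩ := exists_isPPart hp.out (y * v)
      obtain ⟨j, rfl⟩ := ((mem_SS hz).1 hv).1
      rw [phi hM h hz hu]
      exact if_congr ((h3 _ ⟨j, rfl⟩ u hu).trans (not_congr ⟨fun e => Subtype.ext e, fun e => congrArg Subtype.val e⟩)) rfl rfl, ← sum_filter,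
      filter_ne', sum_const, nsmul_eq_mul, card_erase_of_mem h4, Nat.cast_pred (card_pos.2 ⟨_, h4⟩), card_SS' hz]
    ring
  have h2 : ∀ χ : IrrCharacter G, ∑ b : G, ∑ w ∈ SS p (P : Subgroup G), ∑ v ∈ SS p (P : Subgroup G),
      AA p z χ * (χ : G → ℂ) (b * w * b⁻¹ * v) = Nat.card G * (AA p z χ ^ 3 / charDegree (χ : G → ℂ)) := fun χ => by
    have h3 := irr_one_ne_zero χ.2
    rw [sum_comm, sum_congr rfl fun w _ => sum_comm, charDegree_eq (irr_isCharacter χ)]
    simp only [← mul_sum, fun w v => (eq_div_iff h3).2 ((mul_comm _ _).trans (irr_sum_conj_mul χ.2 w v)),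
      ← sum_div, ← sum_mul, sum_SS hz]
    ring
  apply Complex.ofReal_injective
  push_cast
  apply mul_left_cancel₀ (natCard_ne_zero (G := G))
  rw [mul_sum, ← sum_congr rfl fun χ _ => h2 χ, sum_comm, sum_congr rfl (g := fun _ => ((p : ℂ) - 1) * (p - 2) *
    (Nat.card (P : Subgroup G) * ee P)) fun b _ => by
      rw [sum_comm, sum_congr rfl fun w hw => sum_comm.trans (h1 _ (by
        rw [← ord_conj (isConj_iff.2 ⟨b, rfl⟩ : IsConj (w : G) _), Subgroup.orderOf_coe]
        exact (mem_filter.1 hw).2)), sum_const, nsmul_eq_mul, card_SS' hz, mul_assoc],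
    sum_const, card_univ, nsmul_eq_mul, Nat.card_eq_fintype_card (α := G)]

end CfsgLib.CycPair
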