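import Mathlib
import Cfsg.Agent.Lib.CycPair.C

/-! The final inequality for a simple group with cyclic Sylow `p`-subgroups all of whose pairs of elements of
order `p` generate `p`-solvable subgroups. -/

set_option autoImplicit false

namespace CfsgLib.CycPair

open Cfsg Subgroup CfsgLib.Block CfsgLib.Char Finset
open CfsgLib.BrPair (Cz Nz Ce)
open CfsgLib.SL2 (card_dual)
open scoped CfsgLib.SL2 CfsgLib.Char Classical

theorem num1 {p e A r : ℤ} (hp : 0 ≤ p) (he : 0 ≤ e) (h1 : A ^ 2 + (p - 1) ^ 2 ≤ (p - 1) * (p * e)) (h2 : e ≤ r) :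
    2 * A ≤ p * r :=
  (abs_le_of_sq_le_sq' (a := 2 * A) (b := p * e) (by nlinarith [sq_nonneg (p * e - 2 * (p - 1))])
    (by positivity)).2.trans (mul_le_mul_of_nonneg_left h2 hp)

theorem num2 {p q e A r : ℤ} (hp : 3 ≤ p) (hq : 3 ≤ q) (he : e ≤ p - 1)
    (h1 : A ^ 2 + (p - 1) ^ 2 ≤ (p - 1) * (p * q * e)) (h2 : (p - 1) * q ≤ r + e) : 2 * A ≤ p * r := by
  have h3 : 4 * q ≤ p * (q - 1) ^ 2 := by nlinarith [mul_nonneg (sub_nonneg.2 hp) (sq_nonneg (q - 1))]
  have h4 : (p - 1) * (p * q * e) ≤ (p - 1) * (p * q * (p - 1)) :=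
    mul_le_mul_of_nonneg_left (mul_le_mul_of_nonneg_left he (by positivity)) (by omega)
  have h5 := mul_le_mul_of_nonneg_left h3 (show 0 ≤ p * (p - 1) ^ 2 by positivity)
  refine (abs_le_of_sq_le_sq' (a := 2 * A) (b := p * ((p - 1) * (q - 1))) (by nlinarith [sq_nonneg (p - 1)])
    (mul_nonneg (by omega) (mul_nonneg (by omega) (by omega)))).2.trans
    (mul_le_mul_of_nonneg_left (by linarith) (by omega))

theorem num3 {ι : Type*} {B : Finset ι} {A : ι → ℤ} {d : ι → ℕ} {o m : ι} (ho : o ∈ B) (hm : m ∈ B) {p N : ℝ}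
    (hp : 1 < p) (Ao : (A o : ℝ) = p - 1) (do' : d o = 1) (Am : A m < 0) (hd : ∀ i, d i ≠ 0)
    (h3 : ∀ i ∈ B, i ≠ o → 3 * (A i : ℝ) ≤ (p - 1) * d i) (s2 : ∑ i ∈ B, (A i : ℝ) ^ 2 = (p - 1) * N)
    (s3 : ∑ i ∈ B, (A i ^ 3 / d i : ℝ) = (p - 1) * (p - 2) * N) :
    N * (2 * p - 5) + (A m : ℝ) ^ 2 ≤ 2 * (p - 1) ^ 2 := by
  have Am' : (A m : ℝ) < 0 := by exact_mod_cast Am
  have hd' : ∀ i, (0 : ℝ) < d i := fun i => Nat.cast_pos.2 (Nat.pos_of_ne_zero (hd i))
  have h1 := single_le_sum (f := fun i => (p - 1) * (A i : ℝ) ^ 2 - 3 * (A i ^ 3 / d i)) (s := B.erase o)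
    (fun i hi => by
      rw [sub_nonneg, ← mul_div_assoc, div_le_iff₀ (hd' i)]
      nlinarith [mul_le_mul_of_nonneg_left (h3 i (mem_of_mem_erase hi) (ne_of_mem_erase hi)) (sq_nonneg (A i : ℝ))])
    (mem_erase.2 ⟨fun e => by rw [e, Ao] at Am'; linarith, hm⟩)
  rw [sum_erase_eq_sub ho, sum_sub_distrib, ← mul_sum, ← mul_sum, s2, s3, Ao, do'] at h1
  have h2 : (A m : ℝ) ^ 3 / d m ≤ 0 := div_nonpos_of_nonpos_of_nonneg (Odd.pow_neg ⟨1, rfl⟩ Am').le (hd' m).le
  refine le_of_mul_le_mul_left ?_ (sub_pos.2 hp)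
  push_cast at h1
  linarith

variable {G : Type*} [Group G] [Fintype G] {p : ℕ} [hp : Fact p.Prime]

theorem main [IsSimpleGroup G] (hC : Cy p G) (hd : p ∣ Nat.card G) (hN : ¬ HasNormalPComplement p G)
    (H : ∀ x y : G, orderOf x = p → orderOf y = p → IsPSolvable p (closure ({x, y} : Set G))) : False := by
  obtain ⟨P⟩ : Nonempty (Sylow p G) := inferInstance
  have hc := hC _ P.isPGroup'
  have h := hC.frobSyl P
  obtain ⟨M, hM⟩ := exists_isPModular' hp.out
  have hq : p ∣ Nat.card (P : Subgroup G) := P.dvd_card_of_dvd_card hd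
  obtain ⟨z, hz⟩ := exists_prime_orderOf_dvd_card' p hq
  have hz1 : z ≠ 1 := fun e => hp.out.ne_one (by rw [← hz, e, orderOf_one])
  have e2 : 2 ≤ ee P := by
    have h1 : ee P ≠ 0 := index_ne_zero_of_finite
    have h2 : ee P ≠ 1 := fun e => hN (Transfer.burnside_normal_complement P (relIndex_eq_one.1 e))
    omega
  have ep : ee P ≤ p - 1 := by
    rw [← card_conj h (u := z) (by rwa [Subgroup.orderOf_coe]), ← card_SS hz]
    exact card_filter_le _ _
  have p3 : 3 ≤ p := by omega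
  have o1 : charDegree (irrOne G : G → ℂ) = 1 := charDegree_eq_of_eq (by simp [irrOne_apply])
  have oA : AA p z (irrOne G) = p - 1 := by
    apply Int.cast_injective (α := ℂ)
    rw [← sum_SS hz]
    simp [irrOne_apply, card_SS' hz]
  have oB : irrOne G ∈ BB M G := mem_filter.2 ⟨mem_univ _, irrOne_mem_principalBlock hM⟩
  have s2 := sum_sq hM h hz
  have s1 := sum_deg hM h hz
  have s3 := sum_cube hM h hC hz H
  obtain ⟨q, hq⟩ := hq
  have hT : (TT z).card = (p - 1) * q := Nat.eq_of_mul_eq_mul_left hp.out.pos (by rw [card_TT hz, hq]; ring)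
  have hq' : q = 1 ∨ p ≤ q := by
    obtain ⟨k, hk⟩ := P.isPGroup'.exists_card_eq
    obtain ⟨j, -, hj⟩ := (Nat.dvd_prime_pow hp.out).1 (hk ▸ Dvd.intro_left _ hq.symm : q ∣ p ^ k)
    rcases j with _ | j
    · exact Or.inl hj
    · exact Or.inr (hj ▸ Nat.le_self_pow j.succ_ne_zero p)
  have key : ∀ χ ∈ BB M G, χ ≠ irrOne G → 2 * AA p z χ ≤ p * rr z χ := fun χ hχ h1 => by
    have h2 : AA p z χ ^ 2 + (p - 1) ^ 2 ≤ (p - 1) * (p * q * ee P) := by
      rw [← Nat.cast_mul p, ← hq, ← s2, ← oA, ← sum_pair (f := fun χ => AA p z χ ^ 2) h1]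
      exact sum_le_sum_of_subset_of_nonneg (insert_subset hχ (singleton_subset_iff.2 oB)) fun _ _ _ => sq_nonneg _
    rcases hq' with rfl | h3
    · exact num1 (e := ee P) (by positivity) (by positivity) (by simpa using h2)
        (by exact_mod_cast (bound1 h hz (rr_pos hz1 h1)).1)
    · obtain ⟨δ, d, ζ, a, E⟩ := h.exists_isExc hM (h.two_of_lt (by
        have := Nat.mul_le_mul_left p (p3.trans h3)
        rw [hq]; change ee P + 1 < _; omega))
      obtain ⟨l, h4, h5⟩ := exists_mem_ne (s := (TT z)ᶜ) (by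
        rw [card_compl, ← Nat.card_eq_fintype_card, card_dual, hq, hT, ← Nat.sub_mul]
        rw [Nat.sub_sub_self hp.out.pos]; omega) 1
      have h6 := bound2 hM h E hz h5 (by simpa [TT] using h4) (mem_filter.1 hχ).2 h1
      rw [hT] at h6
      exact num2 (by exact_mod_cast p3) (by exact_mod_cast p3.trans h3) (by omega) h2
        (by rw [← Nat.cast_pred hp.out.pos]; exact_mod_cast h6)
  obtain ⟨m, hm, Am⟩ : ∃ m ∈ BB M G, AA p z m < 0 := by
    by_contra! hh
    have := single_le_sum (f := fun χ => AA p z χ * charDegree (χ : G → ℂ))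
      (fun χ hχ => mul_nonneg (hh χ hχ) (Nat.cast_nonneg _)) oB
    simp only [s1, oA, o1] at this
    omega
  have hm1 : m ≠ irrOne G := fun e => by rw [e, oA] at Am; omega
  have fin := num3 (A := AA p z) (d := fun χ : IrrCharacter G => charDegree (χ : G → ℂ)) (p := p)
    (N := Nat.card (P : Subgroup G) * ee P) oB hm
    (by exact_mod_cast hp.out.one_lt) (by rw [oA]; simp) o1 Am (fun χ => charDegree_ne_zero χ.2)
    (fun χ hχ h1 => by
      have h2 := key χ hχ h1
      have h3 : 3 * AA p z χ ≤ (p - 1) * charDegree (χ : G → ℂ) := by rw [AA] at h2 ⊢; linarith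
      exact_mod_cast h3) (by exact_mod_cast s2) s3
  replace fin : ((p * q * ee P : ℕ) : ℤ) * (2 * p - 5) + AA p z m ^ 2 ≤ 2 * (p - 1) ^ 2 := by
    rw [hq] at fin
    exact_mod_cast fin
  have h1 : p * 1 * 2 ≤ p * q * ee P := by gcongr; omega
  rcases p3.eq_or_lt with rfl | p4
  · have h2 : 3 * q * 2 ≤ 3 * q * ee P := by gcongr
    rcases hq' with rfl | h3
    · obtain ⟨k, hk⟩ := (bound1 h hz (rr_pos hz1 hm1)).2 (by omega)
      have h4 : AA 3 z m ≤ -2 := by
        rw [AA, hk, show ee P = 2 by omega] at Am ⊢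
        push_cast at Am ⊢
        omega
      push_cast at fin
      nlinarith
    · push_cast at fin
      nlinarith
  · zify at h1 p4
    push_cast at fin
    nlinarith [mul_le_mul_of_nonneg_right h1 (show (0 : ℤ) ≤ 2 * p - 5 by omega), sq_nonneg (AA p z m)]

end CfsgLib.CycPair
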